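import Groth.Prelude.Def_CurvBase
import Groth.Agent.Lib.ArSurf29.NodeReduced
import Mathlib.RingTheory.AdicCompletion.AsTensorProduct
import Mathlib.RingTheory.IntegralClosure.IntegrallyClosed
import Mathlib.RingTheory.PowerSeries.Inverse
import Mathlib.RingTheory.Regular.Flat

/-!
# `p`-th roots of sections at ordinary double points
-/

set_option autoImplicit false
set_option linter.style.haveILetI false
set_option backward.isDefEq.respectTransparency false

universe u

open IsLocalRing

noncomputable section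

namespace GrothLib.NodeFrob

/-- A ring in which a quotient by a nonzerodivisor lies in it as soon as its `p`-th power does. -/
def PthClosed (A : Type u) [CommRing A] (p : ℕ) : Prop :=
  ∀ a t c : A, IsSMulRegular A t → a ^ p = t ^ p * c → t ∣ a

theorem pthClosed_of_isIntegrallyClosed (A : Type u) [CommRing A] [IsDomain A] [IsIntegrallyClosed A] {p : ℕ}
    (hp : p ≠ 0) : PthClosed A p := fun _ _ c _ h =>
  (IsIntegrallyClosed.pow_dvd_pow_iff hp).1 ⟨c, h⟩

theorem PthClosed.of_equiv {A B : Type u} [CommRing A] [CommRing B] (e : A ≃+* B) {p : ℕ} (h : PthClosed B p) :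
    PthClosed A p := fun a t c ht hac => by
  have hreg : IsSMulRegular B (e t) := fun x y hxy => by
    simp only [smul_eq_mul] at hxy
    have := ht (a₁ := e.symm x) (a₂ := e.symm y) (by
      simp only [smul_eq_mul]
      apply e.injective
      rw [map_mul, map_mul, RingEquiv.apply_symm_apply, RingEquiv.apply_symm_apply, hxy])
    exact e.symm.injective this
  exact (map_dvd_iff e).1 (h (e a) (e t) (e c) hreg (by rw [← map_pow, ← map_pow, ← map_mul, hac]))

section Axes

variable {k : Type u} [CommRing k]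

/-- Restriction of a power series in two variables to the axis of the variable `s`. -/
def axis (s : Fin 2) : MvPowerSeries (Fin 2) k →+* PowerSeries k where
  toFun f := PowerSeries.mk fun n => MvPowerSeries.coeff (Finsupp.single s n) f
  map_one' := PowerSeries.ext fun n => by classical simp [PowerSeries.coeff_one, MvPowerSeries.coeff_one]
  map_mul' f g := PowerSeries.ext fun n => by
    classical
    rw [PowerSeries.coeff_mk, PowerSeries.coeff_mul, MvPowerSeries.coeff_mul, Finsupp.antidiagonal_single,
      Finset.sum_map]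
    simp
  map_zero' := PowerSeries.ext fun n => by simp
  map_add' f g := PowerSeries.ext fun n => by simp

@[simp]
theorem coeff_axis (s : Fin 2) (f : MvPowerSeries (Fin 2) k) (n : ℕ) :
    PowerSeries.coeff n (axis s f) = MvPowerSeries.coeff (Finsupp.single s n) f :=
  by simp [axis]

theorem axis_X {s o : Fin 2} (h : s ≠ o) : axis s (MvPowerSeries.X o : MvPowerSeries (Fin 2) k) = 0 := by
  classical
  refine PowerSeries.ext fun n => ?_
  rw [coeff_axis, MvPowerSeries.coeff_X, if_neg, map_zero]
  intro he
  have := congrArg (fun e : Fin 2 →₀ ℕ => e o) he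
  simp [h] at this

theorem eq_single {d : Fin 2 →₀ ℕ} {s o : Fin 2} (h : s ≠ o) (hd : d o = 0) : d = Finsupp.single s (d s) := by
  ext i
  by_cases hi : i = s
  · subst hi; simp
  · have : i = o := by omega
    subst this; simp [hd, h]

theorem mem_span_of_axis {f : MvPowerSeries (Fin 2) k} (h : ∀ s, axis s f = 0) :
    f ∈ Ideal.span {(MvPowerSeries.X 0 * MvPowerSeries.X 1 : MvPowerSeries (Fin 2) k)} := by
  refine ArSurf29.mem_span_X0X1_of_coeff fun d hd => ?_
  rcases hd with hd | hd
  · rw [eq_single (s := 1) (o := 0) (by decide) hd, ← coeff_axis, h 1, map_zero]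
  · rw [eq_single (s := 0) (o := 1) (by decide) hd, ← coeff_axis, h 0, map_zero]

theorem axis_mem_span {f : MvPowerSeries (Fin 2) k}
    (h : f ∈ Ideal.span {(MvPowerSeries.X 0 * MvPowerSeries.X 1 : MvPowerSeries (Fin 2) k)}) (s : Fin 2) :
    axis s f = 0 := by
  obtain ⟨g, rfl⟩ := Ideal.mem_span_singleton'.1 h
  fin_cases s
  · rw [map_mul, map_mul, axis_X (o := 1) (by decide), mul_zero, mul_zero]
  · rw [map_mul, map_mul, axis_X (o := 0) (by decide), zero_mul, mul_zero]

theorem exists_axis (q : Fin 2 → PowerSeries k)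
    (h : PowerSeries.coeff 0 (q 0) = PowerSeries.coeff 0 (q 1)) :
    ∃ f : MvPowerSeries (Fin 2) k, ∀ s, axis s f = q s := by
  let f : MvPowerSeries (Fin 2) k := fun d =>
    if d 1 = 0 then PowerSeries.coeff (d 0) (q 0) else if d 0 = 0 then PowerSeries.coeff (d 1) (q 1) else 0
  have hf : ∀ d, MvPowerSeries.coeff d f =
      if d 1 = 0 then PowerSeries.coeff (d 0) (q 0) else if d 0 = 0 then PowerSeries.coeff (d 1) (q 1) else 0 :=
    fun d => rfl
  refine ⟨f, fun s => PowerSeries.ext fun n => ?_⟩
  rw [coeff_axis, hf]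
  fin_cases s
  · simp
  · rcases eq_or_ne n 0 with rfl | hn
    · simpa using h
    · simp [hn]

theorem constantCoeff_axis (s : Fin 2) (f : MvPowerSeries (Fin 2) k) :
    PowerSeries.coeff 0 (axis s f) = MvPowerSeries.coeff 0 f := by
  rw [coeff_axis, Finsupp.single_zero]

end Axes

theorem pthClosed_quot_X0X1 (k : Type u) [Field k] (p : ℕ) [Fact p.Prime] [CharP k p] :
    PthClosed (MvPowerSeries (Fin 2) k ⧸
      Ideal.span {(MvPowerSeries.X 0 * MvPowerSeries.X 1 : MvPowerSeries (Fin 2) k)}) p := by
  classical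
  intro a t c ht h
  obtain ⟨a, rfl⟩ := Ideal.Quotient.mk_surjective a
  obtain ⟨t, rfl⟩ := Ideal.Quotient.mk_surjective t
  obtain ⟨c, rfl⟩ := Ideal.Quotient.mk_surjective c
  rw [← map_pow, ← map_pow, ← map_mul, Ideal.Quotient.eq] at h
  have hpw : ∀ s, (axis s a) ^ p = (axis s t) ^ p * axis s c := fun s => by
    have := axis_mem_span h s
    rwa [map_sub, map_mul, map_pow, map_pow, sub_eq_zero] at this
  -- a regular element vanishes on no axis
  have hne : ∀ s, axis s t ≠ 0 := by
    intro s h0
    have hX : (MvPowerSeries.X s : MvPowerSeries (Fin 2) k) ∉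
        Ideal.span {(MvPowerSeries.X 0 * MvPowerSeries.X 1 : MvPowerSeries (Fin 2) k)} := fun hm => by
      have := congrArg (PowerSeries.coeff 1) (axis_mem_span hm s)
      simp [MvPowerSeries.coeff_X] at this
    refine hX ((Ideal.Quotient.eq_zero_iff_mem).1 (ht ?_))
    show Ideal.Quotient.mk _ t * Ideal.Quotient.mk _ (MvPowerSeries.X s) = Ideal.Quotient.mk _ t * 0
    rw [mul_zero, ← map_mul, Ideal.Quotient.eq_zero_iff_mem]
    refine mem_span_of_axis fun r => ?_
    rw [map_mul]
    rcases eq_or_ne r s with rfl | hr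
    · rw [h0, zero_mul]
    · rw [axis_X hr, mul_zero]
  have hp : p ≠ 0 := (Fact.out : p.Prime).ne_zero
  have hdvd : ∀ s, ∃ q, axis s a = axis s t * q := fun s =>
    (IsIntegrallyClosed.pow_dvd_pow_iff hp).1 ⟨axis s c, hpw s⟩
  choose q hq using hdvd
  have hqc : ∀ s, q s ^ p = axis s c := fun s => by
    refine mul_left_cancel₀ (pow_ne_zero p (hne s)) ?_
    rw [← mul_pow, ← hq, hpw]
  have h0 : PowerSeries.coeff 0 (q 0) = PowerSeries.coeff 0 (q 1) := by
    refine frobenius_inj k p ?_
    simp only [frobenius_def]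
    have : ∀ s, PowerSeries.coeff 0 (q s) ^ p = MvPowerSeries.coeff 0 c := fun s => by
      rw [← constantCoeff_axis s c, ← hqc, PowerSeries.coeff_zero_eq_constantCoeff, map_pow]
    rw [this 0, this 1]
  obtain ⟨f, hf⟩ := exists_axis q h0
  refine ⟨Ideal.Quotient.mk _ f, ?_⟩
  rw [← map_mul, Ideal.Quotient.eq]
  exact mem_span_of_axis fun s => by rw [map_sub, map_mul, hq, hf, sub_self]

/-- Descent of `PthClosed` from the completion of a local ring. -/
theorem pthClosed_of_completion {A : Type u} [CommRing A] [IsLocalRing A] [IsNoetherianRing A] {p : ℕ}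
    (h : PthClosed (AdicCompletion (maximalIdeal A) A) p) : PthClosed A p := by
  intro a t c ht hac
  have hreg : IsSMulRegular (AdicCompletion (maximalIdeal A) A) (algebraMap A _ t) := ht.of_flat
  obtain ⟨q, hq⟩ := h (algebraMap A _ a) _ (algebraMap A _ c) hreg (by rw [← map_pow, ← map_pow, ← map_mul, hac])
  have hmem : ∀ n : ℕ, a ∈ Ideal.span {t} ⊔ maximalIdeal A ^ n := fun n => by
    obtain ⟨b, hb⟩ := Ideal.Quotient.mk_surjective (AdicCompletion.evalₐ (maximalIdeal A) n q)
    have h2 := congrArg (AdicCompletion.evalₐ (maximalIdeal A) n) hq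
    rw [map_mul, AlgHom.commutes, AlgHom.commutes, ← hb] at h2
    have h3 : a - t * b ∈ maximalIdeal A ^ n := Ideal.Quotient.eq.1 (by rw [map_mul]; exact h2)
    rw [show a = t * b + (a - t * b) by ring]
    exact Submodule.add_mem_sup (Ideal.mem_span_singleton'.2 ⟨b, mul_comm _ _⟩) h3
  have h0 : Submodule.Quotient.mk (p := (Ideal.span {t} : Submodule A A)) a = 0 := by
    refine (Submodule.mem_bot A).1 ?_
    rw [← Ideal.iInf_pow_smul_eq_bot_of_isLocalRing (M := A ⧸ (Ideal.span {t} : Submodule A A))
      (maximalIdeal A) (maximalIdeal.isMaximal A).ne_top]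
    refine Submodule.mem_iInf _ |>.2 fun n => ?_
    obtain ⟨x, hx, y, hy, hxy⟩ := Submodule.mem_sup.1 (hmem n)
    rw [← hxy, Submodule.Quotient.mk_add, (Submodule.Quotient.mk_eq_zero _).2 hx, zero_add,
      show y = y • (1 : A) by simp, Submodule.Quotient.mk_smul]
    exact Submodule.smul_mem_smul hy trivial
  exact Ideal.mem_span_singleton.1 ((Submodule.Quotient.mk_eq_zero _).1 h0)

/-- Ordinary double points in characteristic `p`. -/
theorem pthClosed_of_isOrdDoublePt {K : Type u} [Field K] {A : Type u} [CommRing A] [Algebra K A]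
    [IsLocalRing A] [IsNoetherianRing A] {p : ℕ} [Fact p.Prime] [CharP K p] (h : Curv2.IsOrdDoublePt K A) :
    PthClosed A p := by
  obtain ⟨e, -⟩ := h
  exact pthClosed_of_completion ((pthClosed_quot_X0X1 K p).of_equiv e)

end GrothLib.NodeFrob
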