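import Groth.Agent.Lib.NodeFrob.PthClosed
import Groth.Agent.Lib.RegLoc.Normal
import Groth.Agent.Lib.AlgMisc.GeomRegAt
import Groth.Agent.Lib.GrpSchField.SmoothRegular
import Mathlib.RingTheory.Ideal.MinimalPrime.Noetherian

/-!
# Functions on a finite birational cover whose `p`-th power descends
-/

set_option autoImplicit false
set_option linter.style.haveILetI false
set_option backward.isDefEq.respectTransparency false

universe u

open CategoryTheory CategoryTheory.Limits AlgebraicGeometry TopologicalSpace Opposite IsLocalRing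

noncomputable section

namespace GrothLib.NodeFrob

/-- A dense open of the spectrum of a Noetherian ring contains a dense basic open. -/
theorem exists_basicOpen_dense {A : Type u} [CommRing A] [IsNoetherianRing A] {D : Set (PrimeSpectrum A)}
    (hD : IsOpen D) (hd : Dense D) :
    ∃ t : A, (PrimeSpectrum.basicOpen t : Set (PrimeSpectrum A)) ⊆ D ∧
      Dense (PrimeSpectrum.basicOpen t : Set (PrimeSpectrum A)) := by
  classical
  have hfin := minimalPrimes.finite_of_isNoetherianRing A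
  obtain ⟨I, hI⟩ := (PrimeSpectrum.isClosed_iff_zeroLocus_ideal Dᶜ).1 hD.isClosed_compl
  have hnot : ∀ P ∈ minimalPrimes A, ¬ I ≤ P := by
    intro P hP hle
    let P' : PrimeSpectrum A := ⟨P, hP.1.1⟩
    have : ¬ (hfin.toFinset.erase P).inf id ≤ P := fun h => by
      obtain ⟨Q, hQ, hQP⟩ := (hP.1.1.inf_le').1 h
      rw [Finset.mem_erase, Set.Finite.mem_toFinset] at hQ
      exact hQ.1 (le_antisymm hQP (hP.2 ⟨hQ.2.1.1, bot_le⟩ hQP))
    obtain ⟨u, hu, huP⟩ := SetLike.not_le_iff_exists.1 this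
    obtain ⟨Q, hQu, hQD⟩ := hd.inter_open_nonempty (PrimeSpectrum.basicOpen u) (PrimeSpectrum.basicOpen u).2
      ⟨P', huP⟩
    obtain ⟨R, hR, hRQ⟩ := Ideal.exists_minimalPrimes_le (I := (⊥ : Ideal A)) (J := Q.asIdeal) bot_le
    have hRP : R = P := by
      by_contra hne
      exact hQu (hRQ (Finset.inf_le (f := id)
        (Finset.mem_erase.2 ⟨hne, (Set.Finite.mem_toFinset hfin).2 hR⟩) hu))
    have hmem : Q ∈ Dᶜ := by
      rw [hI, PrimeSpectrum.mem_zeroLocus]
      exact hle.trans (hRP ▸ hRQ)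
    exact hmem hQD
  have hsub : ¬ (I : Set A) ⊆ ⋃ P ∈ (↑hfin.toFinset : Set (Ideal A)), (P : Set A) := by
    rw [Ideal.subset_union_prime (⊥ : Ideal A) ⊥ fun P hP _ _ => ((Set.Finite.mem_toFinset hfin).1 hP).1.1]
    rintro ⟨P, hP, hle⟩
    exact hnot P ((Set.Finite.mem_toFinset hfin).1 hP) hle
  obtain ⟨t, htI, ht⟩ := Set.not_subset.1 hsub
  simp only [Set.mem_iUnion, not_exists] at ht
  refine ⟨t, fun Q hQ => ?_, fun Q => ?_⟩
  · by_contra hQD
    have : Q ∈ PrimeSpectrum.zeroLocus (I : Set A) := hI ▸ hQD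
    exact hQ ((PrimeSpectrum.mem_zeroLocus _ _).1 this htI)
  · obtain ⟨P, hP, hPQ⟩ := Ideal.exists_minimalPrimes_le (I := (⊥ : Ideal A)) (J := Q.asIdeal) bot_le
    let P' : PrimeSpectrum A := ⟨P, hP.1.1⟩
    exact ((PrimeSpectrum.le_iff_specializes P' Q).1 hPQ).mem_closed isClosed_closure
      (subset_closure (ht P ((Set.Finite.mem_toFinset hfin).2 hP)))

section Stalk

/-- The local rings at closed points of a nodal curve. -/
theorem pthClosed_stalk (k : Type u) [Field k] [IsAlgClosed k] (p : ℕ) [Fact p.Prime] [CharP k p]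
    (X : Scheme.{u}) [X.Over (Spec (CommRingCat.of k))] [LocallyOfFiniteType (X ↘ Spec (CommRingCat.of k))]
    (hnod : Curv2.AtWorstNodal k X) (x : X) (hx : IsClosed ({x} : Set X)) :
    PthClosed (X.presheaf.stalk x) p := by
  rcases hnod x hx with ⟨U, hxU, hU⟩ | ⟨-, xb, hxb, hodp⟩
  · haveI := hU
    let x' : U.toScheme := ⟨x, hxU⟩
    have hx' : IsClosed ({x'} : Set U.toScheme) := by
      rw [show ({x'} : Set U.toScheme) = U.ι ⁻¹' {x} from Set.ext fun z => Subtype.ext_iff]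
      exact hx.preimage U.ι.continuous
    haveI := GrpSchField.isRegularLocalRing_stalk_of_smooth (U.ι ≫ (X ↘ Spec (CommRingCat.of k))) hx'
    haveI : IsRegularLocalRing (X.presheaf.stalk x) :=
      Groth.Agent.Lib.AlgMisc.GeomRegAt.isRegularLocalRing_of_iso (inv (U.ι.stalkMap x'))
    haveI := CMFree.isDomain_of_isRegularLocalRing (X.presheaf.stalk x)
    haveI := RegLoc.isIntegrallyClosed_of_isRegularLocalRing (X.presheaf.stalk x)
    exact pthClosed_of_isIntegrallyClosed _ (Fact.out : p.Prime).ne_zero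
  · let K := AlgebraicClosure k
    haveI : CharP K p := charP_of_injective_algebraMap (algebraMap k K).injective p
    haveI : IsIso (Spec.map (CommRingCat.ofHom (algebraMap k K))) := by
      haveI : IsIso (CommRingCat.ofHom (algebraMap k K)) :=
        (ConcreteCategory.isIso_iff_bijective _).2 IsAlgClosed.algebraMap_bijective_of_isIntegral
      infer_instance
    haveI : IsIso (Curv2.bcFst k X K) := pullback_fst_iso_of_right_iso _ _
    haveI : IsLocallyNoetherian (Curv2.bc k X K) :=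
      haveI : IsLocallyNoetherian X := LocallyOfFiniteType.isLocallyNoetherian (X ↘ Spec (CommRingCat.of k))
      LocallyOfFiniteType.isLocallyNoetherian (Curv2.bcFst k X K)
    letI : (Curv2.bc k X K).Over (Spec (CommRingCat.of K)) := ⟨Curv2.bcSnd k X K⟩
    letI := Curv2.stalkAlgebra K (Curv2.bc k X K) xb
    have h := pthClosed_of_isOrdDoublePt (p := p) hodp
    subst hxb
    exact h.of_equiv (asIso ((Curv2.bcFst k X K).stalkMap xb)).commRingCatIsoToRingEquiv

end Stalk

section Cover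

variable {C' C : Scheme.{u}} (π : C' ⟶ C)

theorem app_res {V V' : C.Opens} (h : V' ≤ V) (x : Γ(C, V)) :
    π.app V' (C.presheaf.map (homOfLE h).op x) =
      C'.presheaf.map ((Opens.map π.base).map (homOfLE h)).op (π.app V x) := by
  rw [← ConcreteCategory.comp_apply, π.naturality]
  rfl

theorem app_bijective_of_le {U V : C.Opens} [IsIso (π ∣_ U)] (h : V ≤ U) : Function.Bijective (π.app V) := by
  have e : U.ι ''ᵁ (U.ι ⁻¹ᵁ V) = V := by
    rw [Scheme.Hom.image_preimage_eq_opensRange_inf, Scheme.Opens.opensRange_ι]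
    exact inf_eq_right.2 h
  have h1 : IsIso ((π ∣_ U).app (U.ι ⁻¹ᵁ V)) := inferInstance
  rw [morphismRestrict_app] at h1
  haveI := h1
  have h2 : IsIso (π.app (U.ι ''ᵁ (U.ι ⁻¹ᵁ V))) := @IsIso.of_isIso_comp_right _ _ _ _ _ _ _ _ h1
  have h3 : ∀ V', U.ι ''ᵁ (U.ι ⁻¹ᵁ V) = V' → IsIso (π.app V') := by rintro V' rfl; exact h2
  haveI := h3 V e
  exact (ConcreteCategory.isIso_iff_bijective (π.app V)).1 inferInstance

theorem app_injective [IsReduced C] {U : C.Opens} (hU : Dense (U : Set C)) [IsIso (π ∣_ U)] (V : C.Opens) :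
    Function.Injective (π.app V) := by
  rw [injective_iff_map_eq_zero]
  intro s hs
  rw [← basicOpen_eq_bot_iff]
  by_contra hne
  obtain ⟨z, hz⟩ : ((C.basicOpen s : C.Opens) : Set C).Nonempty := by
    rw [Set.nonempty_iff_ne_empty]
    exact fun h0 => hne (Opens.ext h0)
  obtain ⟨w, hw, hwU⟩ := hU.inter_open_nonempty _ (C.basicOpen s).2 ⟨z, hz⟩
  have hle : V ⊓ U ≤ V := inf_le_left
  have h0 : C.presheaf.map (homOfLE hle).op s = 0 := by
    refine (app_bijective_of_le π (inf_le_right : V ⊓ U ≤ U)).1 ?_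
    rw [app_res, hs, map_zero, map_zero]
  have : w ∈ C.basicOpen (C.presheaf.map (homOfLE hle).op s) := by
    rw [Scheme.basicOpen_res]
    exact ⟨⟨C.basicOpen_le s hw, hwU⟩, hw⟩
  rw [h0, Scheme.basicOpen_zero] at this
  exact this

variable [IsReduced C'] [IsReduced C] {U : C.Opens} (hU : Dense (U : Set C))
  (hU' : Dense ((π ⁻¹ᵁ U : C'.Opens) : Set C')) [IsIso (π ∣_ U)]

include hU hU' in
/-- Denominators for functions on the cover. -/
theorem exists_denominator [IsLocallyNoetherian C] {W : C.Opens} (hW : IsAffineOpen W) (s : Γ(C', π ⁻¹ᵁ W)) :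
    ∃ T a : Γ(C, W), IsSMulRegular Γ(C, W) T ∧ π.app W a = π.app W T * s ∧
      ∀ (V : C.Opens) (h : V ≤ W) (b : Γ(C', π ⁻¹ᵁ V)), π.app V (C.presheaf.map (homOfLE h).op T) * b = 0 → b = 0 := by
  haveI : IsNoetherianRing Γ(C, W) := IsLocallyNoetherian.component_noetherian ⟨W, hW⟩
  obtain ⟨t, htU, htd⟩ := exists_basicOpen_dense ((U.2.preimage hW.fromSpec.continuous))
    (hU.preimage hW.fromSpec.isOpenEmbedding.isOpenMap)
  have hpre := hW.fromSpec_preimage_basicOpen t
  have hle : C.basicOpen t ≤ U := fun z hz => by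
    obtain ⟨w, rfl⟩ : z ∈ Set.range hW.fromSpec := by rw [hW.range_fromSpec]; exact C.basicOpen_le t hz
    exact htU (show w ∈ PrimeSpectrum.basicOpen t from hpre ▸ hz)
  -- the basic open is dense in `W`
  have hdense : ∀ O : C.Opens, O ≤ W → (O : Set C).Nonempty → ∃ z ∈ O, z ∈ C.basicOpen t := by
    rintro O hO ⟨z, hz⟩
    obtain ⟨w, rfl⟩ : z ∈ Set.range hW.fromSpec := by rw [hW.range_fromSpec]; exact hO hz
    obtain ⟨w', hw', hwt⟩ := htd.inter_open_nonempty _ (O.2.preimage hW.fromSpec.continuous) ⟨w, hz⟩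
    exact ⟨_, hw', show w' ∈ hW.fromSpec ⁻¹ᵁ C.basicOpen t from hpre ▸ hwt⟩
  -- multiplication by powers of `t` is injective upstairs
  have key : ∀ (V : C.Opens) (h : V ≤ W) (n : ℕ) (b : Γ(C', π ⁻¹ᵁ V)),
      π.app V (C.presheaf.map (homOfLE h).op (t ^ n)) * b = 0 → b = 0 := by
    intro V h n b hb
    rw [← basicOpen_eq_bot_iff]
    by_contra hne
    obtain ⟨y₀, hy₀⟩ : ((C'.basicOpen b : C'.Opens) : Set C').Nonempty := by
      rw [Set.nonempty_iff_ne_empty]
      exact fun h0 => hne (Opens.ext h0)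
    obtain ⟨y, hy, hyU⟩ := hU'.inter_open_nonempty _ (C'.basicOpen b).2 ⟨y₀, hy₀⟩
    let O : C.Opens := ⟨U.ι '' ((π ∣_ U) '' ((π ⁻¹ᵁ U).ι ⁻¹' (C'.basicOpen b : Set C'))),
      U.ι.isOpenEmbedding.isOpenMap _ ((π ∣_ U).homeomorph.isOpenMap _
        ((C'.basicOpen b).2.preimage (π ⁻¹ᵁ U).ι.continuous))⟩
    have hcomm : ∀ w, U.ι ((π ∣_ U) w) = π ((π ⁻¹ᵁ U).ι w) := fun w => by
      rw [← Scheme.Hom.comp_apply, morphismRestrict_ι, Scheme.Hom.comp_apply]
    have hOW : O ≤ W := by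
      rintro z ⟨_, ⟨w, hw, rfl⟩, rfl⟩
      rw [hcomm]
      exact h (C'.basicOpen_le b hw)
    obtain ⟨z, ⟨_, ⟨w, hw, rfl⟩, rfl⟩, hzt⟩ := hdense O hOW ⟨_, _, ⟨⟨y, hyU⟩, hy, rfl⟩, rfl⟩
    rw [hcomm] at hzt
    have hw' : (π ⁻¹ᵁ U).ι w ∈ C'.basicOpen (π.app V (C.presheaf.map (homOfLE h).op t)) := by
      rw [← Scheme.preimage_basicOpen, Scheme.basicOpen_res]
      exact ⟨C'.basicOpen_le b hw, hzt⟩
    have hmem : (π ⁻¹ᵁ U).ι w ∈ C'.basicOpen (π.app V (C.presheaf.map (homOfLE h).op (t ^ n)) * b) := by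
      rw [Scheme.basicOpen_mul]
      refine ⟨?_, hw⟩
      rw [map_pow, map_pow]
      rcases Nat.eq_zero_or_pos n with rfl | hn
      · rw [pow_zero, Scheme.basicOpen_of_isUnit _ isUnit_one]
        exact C'.basicOpen_le b hw
      · rwa [Scheme.basicOpen_pow _ _ hn]
    rw [hb, Scheme.basicOpen_zero] at hmem
    exact hmem
  haveI := hW.isLocalization_basicOpen t
  obtain ⟨c, hc⟩ := (app_bijective_of_le π hle).2
    (C'.presheaf.map ((Opens.map π.base).map (homOfLE (C.basicOpen_le t))).op s)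
  obtain ⟨n, a, ha⟩ := IsLocalization.Away.surj t c
  have hreg : IsSMulRegular Γ(C, W) (t ^ n) := fun x y hxy => by
    simp only [smul_eq_mul] at hxy
    refine app_injective π hU W (sub_eq_zero.1 (key W le_rfl n _ ?_))
    rw [mul_sub, ← map_mul, ← map_mul, sub_eq_zero]
    rw [show (homOfLE (le_refl W)).op = 𝟙 (op W) from rfl, C.presheaf.map_id]
    exact congrArg (π.app W) hxy
  refine ⟨t ^ n, a, hreg, ?_, fun V h b hb => key V h n b hb⟩
  -- `a - t ^ n s` vanishes over the basic open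
  refine sub_eq_zero.1 (key W le_rfl 1 _ ?_)
  rw [← basicOpen_eq_bot_iff, eq_bot_iff]
  intro y hy
  rw [Scheme.basicOpen_mul, pow_one, ← Scheme.preimage_basicOpen, Scheme.basicOpen_res] at hy
  obtain ⟨⟨-, hyt⟩, hy⟩ := hy
  have hr : C'.presheaf.map ((Opens.map π.base).map (homOfLE (C.basicOpen_le t))).op
      (π.app W a - π.app W (t ^ n) * s) = 0 := by
    rw [map_sub, map_mul, sub_eq_zero, ← hc, ← app_res π, ← app_res π, ← map_mul]
    refine congrArg (π.app (C.basicOpen t)) ?_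
    rw [mul_comm, map_pow]
    exact ha.symm
  have : y ∈ C'.basicOpen (C'.presheaf.map ((Opens.map π.base).map (homOfLE (C.basicOpen_le t))).op
      (π.app W a - π.app W (t ^ n) * s)) := by
    rw [Scheme.basicOpen_res]
    exact ⟨hyt, hy⟩
  rw [hr, Scheme.basicOpen_zero] at this
  exact this

include hU hU' in
/-- A function on the cover whose `p`-th power descends, descends near a point with good local ring. -/
theorem exists_app_eq_of_pow [IsLocallyNoetherian C] {p : ℕ} {x : C} (hp : PthClosed (C.presheaf.stalk x) p)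
    {V : C.Opens} (hxV : x ∈ V) (s : Γ(C', π ⁻¹ᵁ V)) (c : Γ(C, V)) (h : π.app V c = s ^ p) :
    ∃ (V' : C.Opens) (i : V' ≤ V) (d : Γ(C, V')), x ∈ V' ∧
      π.app V' d = C'.presheaf.map ((Opens.map π.base).map (homOfLE i)).op s := by
  obtain ⟨W, hW, hxW, hWV'⟩ := exists_isAffineOpen_mem_and_subset hxV
  have hWV : W ≤ V := hWV'
  let s' := C'.presheaf.map ((Opens.map π.base).map (homOfLE hWV)).op s
  let c' := C.presheaf.map (homOfLE hWV).op c
  have hc' : π.app W c' = s' ^ p := by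
    show π.app W (C.presheaf.map _ c) = _
    rw [app_res, h, map_pow]
  obtain ⟨T, a, hT, ha, hker⟩ := exists_denominator π hU hU' hW s'
  have hac : a ^ p = T ^ p * c' := app_injective π hU W (by
    rw [map_pow, map_mul, map_pow, hc', ha, mul_pow])
  letI : Algebra Γ(C, W) (C.presheaf.stalk x) := TopCat.Presheaf.algebra_section_stalk C.presheaf ⟨x, hxW⟩
  haveI : IsLocalization.AtPrime (C.presheaf.stalk x) (hW.primeIdealOf ⟨x, hxW⟩).asIdeal :=
    hW.isLocalization_stalk ⟨x, hxW⟩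
  haveI : Module.Flat Γ(C, W) (C.presheaf.stalk x) :=
    IsLocalization.flat _ (hW.primeIdealOf ⟨x, hxW⟩).asIdeal.primeCompl
  have hTx : IsSMulRegular (C.presheaf.stalk x) (C.presheaf.germ W x hxW T) := hT.of_flat
  obtain ⟨q, hq⟩ := hp (C.presheaf.germ W x hxW a) _ (C.presheaf.germ W x hxW c') hTx (by
    rw [← map_pow, ← map_pow, ← map_mul, hac])
  obtain ⟨V₁, hxV₁, d₁, rfl⟩ := TopCat.Presheaf.exists_germ_eq C.presheaf q
  have hxi : x ∈ W ⊓ V₁ := ⟨hxW, hxV₁⟩
  have hq' : C.presheaf.germ (W ⊓ V₁) x hxi (C.presheaf.map (homOfLE inf_le_left).op a) =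
      C.presheaf.germ (W ⊓ V₁) x hxi (C.presheaf.map (homOfLE inf_le_left).op T *
        C.presheaf.map (homOfLE inf_le_right).op d₁) := by
    rw [map_mul, TopCat.Presheaf.germ_res_apply, TopCat.Presheaf.germ_res_apply, TopCat.Presheaf.germ_res_apply]
    exact hq
  obtain ⟨V₂, hxV₂, i₁, i₂, e⟩ := TopCat.Presheaf.germ_eq C.presheaf x hxi hxi _ _ hq'
  have h2W : V₂ ≤ W := i₁.le.trans inf_le_left
  have h21 : V₂ ≤ V₁ := i₁.le.trans inf_le_right
  refine ⟨V₂, h2W.trans hWV, C.presheaf.map (homOfLE h21).op d₁, hxV₂, ?_⟩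
  have e' : C.presheaf.map (homOfLE h2W).op a =
      C.presheaf.map (homOfLE h2W).op T * C.presheaf.map (homOfLE h21).op d₁ := by
    rw [show i₂ = i₁ from Subsingleton.elim _ _, map_mul] at e
    simp only [← ConcreteCategory.comp_apply, ← C.presheaf.map_comp] at e
    exact e
  refine sub_eq_zero.1 (hker V₂ h2W _ ?_)
  rw [mul_sub, sub_eq_zero, ← map_mul, ← e', app_res π h2W a, ha, map_mul, ← app_res π h2W]
  congr 1
  show C'.presheaf.map _ (C'.presheaf.map _ s) = _
  rw [← ConcreteCategory.comp_apply, ← C'.presheaf.map_comp]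
  rfl

end Cover

end GrothLib.NodeFrob
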