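import Groth.Agent.Lib.NodeFrob.Denominator
import Groth.Agent.Lib.OX.LocalLift
import Groth.Agent.Lib.Euler.Vanish
import Groth.Agent.Lib.Euler.Support
import Groth.Agent.Lib.CohPullLib.Edge
import Groth.Agent.Lib.QCoh.ToSheaf
import Groth.Agent.Lib.Cohom.Exact
import Groth.Agent.Lib.ASBun21.PushFree
import Groth.Prelude.Def_Pi1
import Mathlib.FieldTheory.Perfect

/-!
# Frobenius on the first cohomology of a curve and of its normalisation
-/

set_option autoImplicit false
set_option linter.style.haveILetI false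
set_option linter.unusedSectionVars false
set_option backward.isDefEq.respectTransparency false
set_option maxHeartbeats 1000000

universe u

open CategoryTheory CategoryTheory.Limits AlgebraicGeometry TopologicalSpace Opposite
open CategoryTheory.Abelian

noncomputable section

namespace GrothLib.NodeFrob

/-- An injective `p`-semilinear endomorphism of a finite-dimensional space is bijective. -/
theorem bijective_of_semilinear {k V : Type u} [Field k] (p : ℕ) [Fact p.Prime] [CharP k p] [IsAlgClosed k]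
    [AddCommGroup V] [Module k V] [FiniteDimensional k V] (f : V →+ V) (hf : ∀ (c : k) v, f (c • v) = c ^ p • f v)
    (hinj : Function.Injective f) : Function.Bijective f := by
  refine ⟨hinj, fun w => ?_⟩
  have hroot : ∀ c : k, ∃ d : k, d ^ p = c := fun c => IsAlgClosed.exists_pow_nat_eq c (Fact.out : p.Prime).pos
  let b := Module.finBasis k V
  have hli : LinearIndependent k (fun i => f (b i)) := by
    rw [Fintype.linearIndependent_iff]
    intro g hg
    choose d hd using fun i => hroot (g i)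
    have h0 : f (∑ i, d i • b i) = f 0 := by
      rw [map_sum, map_zero, ← hg]
      exact Finset.sum_congr rfl fun i _ => by rw [hf, hd]
    intro i
    rw [← hd i, Fintype.linearIndependent_iff.1 b.linearIndependent d (hinj h0) i,
      zero_pow (Fact.out : p.Prime).ne_zero]
  have hsp := hli.span_eq_top_of_card_eq_finrank' (by simp)
  obtain ⟨g, rfl⟩ := (Submodule.mem_span_range_iff_exists_fun k).1 (hsp ▸ Submodule.mem_top : w ∈ _)
  choose d hd using fun i => hroot (g i)
  exact ⟨∑ i, d i • b i, by rw [map_sum]; exact Finset.sum_congr rfl fun i _ => by rw [hf, hd]⟩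

/-- The four lemma with endomorphisms. -/
theorem bijective_iff_of_exact {N Q A B : Type u} [AddCommGroup N] [AddCommGroup Q] [AddCommGroup A]
    [AddCommGroup B] (g : N →+ Q) (δ : Q →+ A) (i : A →+ B) (h₁ : Function.Exact g δ) (h₂ : Function.Exact δ i)
    (hi : Function.Surjective i) (n : N → N) (q : Q →+ Q) (a : A →+ A) (b : B →+ B)
    (hgn : ∀ x, g (n x) = q (g x)) (hδ : ∀ x, δ (q x) = a (δ x)) (hia : ∀ x, i (a x) = b (i x))
    (hn : Function.Surjective n) (hq : Function.Bijective q) :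
    Function.Bijective a ↔ Function.Bijective b := by
  constructor
  · intro ha
    refine ⟨(injective_iff_map_eq_zero b).2 fun y hy => ?_, fun y => ?_⟩
    · obtain ⟨x, rfl⟩ := hi y
      rw [← hia] at hy
      obtain ⟨z, hz⟩ := (h₂ (a x)).1 hy
      obtain ⟨z', rfl⟩ := hq.2 z
      rw [hδ] at hz
      rw [← ha.1 hz]
      exact (h₂ _).2 ⟨z', rfl⟩
    · obtain ⟨x, rfl⟩ := hi y
      obtain ⟨x', rfl⟩ := ha.2 x
      exact ⟨i x', (hia x').symm⟩
  · intro hb
    refine ⟨(injective_iff_map_eq_zero a).2 fun x hx => ?_, fun x => ?_⟩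
    · have : i x = 0 := hb.1 (by rw [← hia, hx, map_zero, map_zero])
      obtain ⟨z, rfl⟩ := (h₂ x).1 this
      rw [← hδ] at hx
      obtain ⟨w, hw⟩ := (h₁ (q z)).1 hx
      obtain ⟨w', rfl⟩ := hn w
      rw [hgn] at hw
      rw [← hq.1 hw]
      exact (h₁ _).2 ⟨w', rfl⟩
    · obtain ⟨y₀, hy⟩ := hb.2 (i x)
      obtain ⟨x₀, rfl⟩ := hi y₀
      have : i (x - a x₀) = 0 := by rw [map_sub, hia, hy, sub_self]
      obtain ⟨z, hz⟩ := (h₂ _).1 this
      obtain ⟨z', rfl⟩ := hq.2 z
      refine ⟨x₀ + δ z', ?_⟩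
      rw [map_add, ← hδ, hz]
      abel

/-- The dimension is at most one as soon as it is so for every component. -/
theorem dim_le_one_of_components {X : Scheme.{u}}
    (h : ∀ Z ∈ irreducibleComponents (X : Type u), topologicalKrullDim Z = 1) : topologicalKrullDim X ≤ 1 := by
  refine (Order.krullDim_eq_of_orderIso (irreducibleSetEquivPoints (α := ↥X))).le.trans
    (iSup_le fun l => ?_)
  obtain ⟨Z, hZ, hlZ⟩ := exists_mem_irreducibleComponents_subset_of_isIrreducible (closure {l.last})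
    isIrreducible_singleton.closure
  have hmem : ∀ i, l i ∈ Z := fun i =>
    hlZ (specializes_iff_mem_closure.1 (l.monotone (Fin.le_last i)))
  let f : (i : Fin (l.length + 1)) → IrreducibleCloseds Z := fun i =>
    ⟨closure {⟨l i, hmem i⟩}, isIrreducible_singleton.closure, isClosed_closure⟩
  have hf : StrictMono f := by
    intro i j hij
    have hlt := l.strictMono hij
    have h1 : (⟨l i, hmem i⟩ : Z) ∈ closure ({⟨l j, hmem j⟩} : Set Z) :=
      closure_subtype.2 (by simpa using specializes_iff_mem_closure.1 hlt.le)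
    refine lt_of_le_of_ne (closure_minimal (Set.singleton_subset_iff.2 h1) isClosed_closure) fun he => ?_
    have h2 : (⟨l j, hmem j⟩ : Z) ∈ closure ({⟨l i, hmem i⟩} : Set Z) := by
      have : (⟨l j, hmem j⟩ : Z) ∈ (f j : Set Z) := subset_closure rfl
      rw [← he] at this
      exact this
    exact not_le_of_gt hlt (specializes_iff_mem_closure.2 (by simpa using closure_subtype.1 h2))
  have := (Order.LTSeries.length_le_krullDim (LTSeries.mk l.length f hf)).trans (h Z hZ).le
  simpa using this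

section Mod

variable {C : Scheme.{u}} (p : ℕ) {M : C.Modules} (ψ : Coh.toAb M ⟶ Coh.toAb M)
  (hψ : ∀ (V : C.Opens) (r : Γ(C, V)) (m : Γ(M, V)), ψ.hom.app (op V) (r • m) = r ^ p • (show Γ(M, V) from ψ.hom.app (op V) m))

include hψ in
theorem smulAb_comp (r : Coh.Γtop C) : Coh.smulAb M r ≫ ψ = ψ ≫ Coh.smulAb M (r ^ p) := by
  ext V m
  show ψ.hom.app V ((Coh.smulAb M r).hom.app V m) = (Coh.smulAb M (r ^ p)).hom.app V (ψ.hom.app V m)
  rw [Coh.smulAb_app, Coh.smulAb_app, map_pow]
  exact hψ V.unop (Coh.resTop C V r) m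

include hψ in
theorem bijective_H0 (k : Type u) [Field k] [IsAlgClosed k] [Fact p.Prime] [CharP k p]
    [C.Over (Spec (CommRingCat.of k))] [FiniteDimensional k (Coh.HH C M 0)]
    (hinj : ∀ m : Γ(M, ⊤), ψ.hom.app (op ⊤) m = 0 → m = 0) : Function.Bijective (Sheaf.H.map ψ 0) := by
  refine bijective_of_semilinear p (k := k) (V := Coh.HH C M 0) (Sheaf.H.map ψ 0) (fun c v => ?_)
    ((injective_iff_map_eq_zero _).2 fun x hx => ?_)
  · show Sheaf.H.map ψ 0 (Sheaf.H.map (Coh.smulAb M (Coh.toGlobal (C ↘ Spec (CommRingCat.of k)) c)) 0 v) =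
      Sheaf.H.map (Coh.smulAb M (Coh.toGlobal (C ↘ Spec (CommRingCat.of k)) (c ^ p))) 0 (Sheaf.H.map ψ 0 v)
    rw [← Sheaf.H.map_comp_apply, ← Sheaf.H.map_comp_apply, map_pow, smulAb_comp p ψ hψ]
  · apply (Sheaf.H.equiv₀ (Coh.toAb M) (isTerminalTop : IsTerminal (⊤ : C.Opens))).injective
    rw [map_zero]
    refine hinj _ ?_
    rw [Sheaf.H.equiv₀_naturality, hx, map_zero]

end Mod

section Main

variable {C' C : Scheme.{u}} (π : C' ⟶ C)

/-- The comparison map into the direct image of functions. -/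
def unitPush : Coh.structureModule C ⟶ (Scheme.Modules.pushforward π).obj (Coh.structureModule C') :=
  SheafOfModules.unitToPushforwardObjUnit _

theorem unitPush_app (V : C.Opens) (s : Γ(C, V)) : (unitPush π).app V s = π.app V s := rfl

theorem isReduced_of_isNormalScheme (h : Pi1.IsNormalScheme C') : IsReduced C' := by
  haveI : ∀ x : C', _root_.IsReduced (C'.presheaf.stalk x) := fun x =>
    haveI := (h x).1
    inferInstance
  exact isReduced_of_isReduced_stalk C'

theorem bijective_iff (k : Type u) [Field k] [IsAlgClosed k] (p : ℕ) [Fact p.Prime] [CharP k p]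
    [C.Over (Spec (CommRingCat.of k))] [IsReduced C] [IsProper (C ↘ Spec (CommRingCat.of k))]
    (hdim : topologicalKrullDim C ≤ 1) (hnod : Curv2.AtWorstNodal k C)
    [IsReduced C'] [IsFinite π] {U : C.Opens} (hU : Dense (U : Set C))
    (hU' : Dense ((π ⁻¹ᵁ U : C'.Opens) : Set C')) [IsIso (π ∣_ U)]
    (φ : Coh.toAb (Coh.structureModule C) ⟶ Coh.toAb (Coh.structureModule C))
    (hφ : ∀ (V : C.Opens) (s : Γ(C, V)), (φ.hom.app (op V)).hom s = s ^ p)
    (φ' : Coh.toAb (Coh.structureModule C') ⟶ Coh.toAb (Coh.structureModule C'))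
    (hφ' : ∀ (V : C'.Opens) (s : Γ(C', V)), (φ'.hom.app (op V)).hom s = s ^ p) :
    Function.Bijective (Sheaf.H.map φ 1) ↔ Function.Bijective (Sheaf.H.map φ' 1) := by
  haveI := Euler.isNoetherian_of_proper (X := C) k
  haveI : IsLocallyNoetherian C' := LocallyOfFiniteType.isLocallyNoetherian π
  haveI : JacobsonSpace C := LocallyOfFiniteType.jacobsonSpace (C ↘ Spec (CommRingCat.of k))
  let N := (Scheme.Modules.pushforward π).obj (Coh.structureModule C')
  let ι := unitPush π
  haveI : Mono ι := QCoh.mono_of_app_injective ι fun V a b h => app_injective π hU V h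
  let S := ShortComplex.mk ι (cokernel.π ι) (cokernel.condition ι)
  have hS : S.ShortExact := { exact := ShortComplex.exact_of_g_is_cokernel _ (cokernelIsCokernel ι) }
  have hA := QCoh.toAbFun_map_shortExact S hS
  haveI := hA.epi_g
  let f : Coh.toAb (Coh.structureModule C) ⟶ Coh.toAb N := (QCoh.toAbFun C).map ι
  let g : Coh.toAb N ⟶ Coh.toAb (cokernel ι) := (QCoh.toAbFun C).map (cokernel.π ι)
  let ν : Coh.toAb N ⟶ Coh.toAb N := (CohTop.push π.base).map φ'
  have hν : ∀ (V : C.Opens) (s : Γ(C', π ⁻¹ᵁ V)), ν.hom.app (op V) s = s ^ p := fun V s => hφ' (π ⁻¹ᵁ V) s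
  have hf : φ ≫ f = f ≫ ν := by
    ext V s
    show π.app V.unop ((φ.hom.app V).hom s) = ν.hom.app V (π.app V.unop s)
    rw [hν, hφ]
    exact map_pow _ _ _
  have hzero : f ≫ ν ≫ g = 0 := by
    rw [← Category.assoc, ← hf, Category.assoc]
    show φ ≫ (S.map (QCoh.toAbFun C)).f ≫ (S.map (QCoh.toAbFun C)).g = 0
    rw [(S.map (QCoh.toAbFun C)).zero, comp_zero]
  let ψ : Coh.toAb (cokernel ι) ⟶ Coh.toAb (cokernel ι) := hA.exact.desc (ν ≫ g) hzero
  have hg : g ≫ ψ = ν ≫ g := hA.exact.g_desc _ _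
  have hψg : ∀ (V : C.Opens) (s : Γ(C', π ⁻¹ᵁ V)),
      ψ.hom.app (op V) ((cokernel.π ι).app V s) = (cokernel.π ι).app V (s ^ p) := fun V s => by
    have := congrArg (fun t : Coh.toAb N ⟶ Coh.toAb (cokernel ι) => t.hom.app (op V) s) hg
    refine this.trans ?_
    show (cokernel.π ι).app V (ν.hom.app (op V) s) = _
    rw [hν]
  -- sections of the quotient lift locally
  have hlift : ∀ {V : C.Opens} (m : Γ(cokernel ι, V)) (x : C), x ∈ V → ∃ (W : C.Opens) (i : W ≤ V)
      (s : Γ(C', π ⁻¹ᵁ W)), x ∈ W ∧ (cokernel.π ι).app W s = (cokernel ι).presheaf.map (homOfLE i).op m := by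
    intro V m x hx
    obtain ⟨e, he⟩ := QCoh.stalkLin_surjective (cokernel.π ι) x ((cokernel ι).presheaf.germ V x hx m)
    obtain ⟨W₀, hxW₀, s, rfl⟩ := TopCat.Presheaf.exists_germ_eq N.presheaf e
    have he' : (cokernel ι).presheaf.germ W₀ x hxW₀ ((cokernel.π ι).app W₀ s) =
        (cokernel ι).presheaf.germ V x hx m := (QCoh.stalkLin_germ _ _ _).symm.trans he
    obtain ⟨W, hxW, i₁, i₂, heq⟩ := TopCat.Presheaf.germ_eq (cokernel ι).presheaf x hxW₀ hx _ _ he'
    refine ⟨W, i₂.le, N.presheaf.map i₁.op s, hxW, ?_⟩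
    refine Eq.trans ?_ heq
    exact ConcreteCategory.congr_hom ((cokernel.π ι).mapPresheaf.naturality i₁.op) s
  have hψ : ∀ (V : C.Opens) (r : Γ(C, V)) (m : Γ(cokernel ι, V)), ψ.hom.app (op V) (r • m) =
      r ^ p • (show Γ(cokernel ι, V) from ψ.hom.app (op V) m) := by
    intro V r m
    refine TopCat.Presheaf.section_ext (Coh.toAb (cokernel ι)) V _ _ fun x hx => ?_
    obtain ⟨W, i, s, hxW, hs⟩ := hlift m x hx
    refine TopCat.Presheaf.germ_ext _ W hxW (homOfLE i) (homOfLE i) ?_
    have hn : ∀ y : Γ(cokernel ι, V), (cokernel ι).presheaf.map (homOfLE i).op (ψ.hom.app (op V) y) =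
        ψ.hom.app (op W) ((cokernel ι).presheaf.map (homOfLE i).op y) := fun y =>
      (ConcreteCategory.congr_hom (ψ.hom.naturality (homOfLE i).op) y).symm
    show (cokernel ι).presheaf.map (homOfLE i).op (ψ.hom.app (op V) (r • m)) =
      (cokernel ι).presheaf.map (homOfLE i).op (r ^ p • (show Γ(cokernel ι, V) from ψ.hom.app (op V) m))
    rw [hn, Scheme.Modules.map_smul, Scheme.Modules.map_smul, hn, ← hs, map_pow, hψg]
    let r' : Γ(C, W) := C.presheaf.map (homOfLE i).op r
    show ψ.hom.app (op W) (r' • (cokernel.π ι).app W s) = r' ^ p • (cokernel.π ι).app W (s ^ p)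
    rw [← Scheme.Modules.Hom.app_smul, ← Scheme.Modules.Hom.app_smul]
    refine (hψg W _).trans (congrArg ((cokernel.π ι).app W) ?_)
    show (π.app W r' * s) ^ p = π.app W (r' ^ p) * s ^ p
    rw [mul_pow, map_pow]
  -- injectivity on global sections
  have hψinj : ∀ m : Γ(cokernel ι, ⊤), ψ.hom.app (op ⊤) m = 0 → m = 0 := by
    intro m hm
    have hloc : ∀ x : C, IsClosed ({x} : Set C) → ∃ W : C.Opens, x ∈ W ∧
        (cokernel ι).presheaf.map (homOfLE (le_top : W ≤ ⊤)).op m = 0 := by
      intro x hx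
      obtain ⟨W, i, s, hxW, hs⟩ := hlift m x trivial
      have h0 : (cokernel.π ι).app W (s ^ p) = 0 := by
        rw [← hψg, hs]
        refine (ConcreteCategory.congr_hom (ψ.hom.naturality (homOfLE i).op) m).trans ?_
        show (cokernel ι).presheaf.map (homOfLE i).op (ψ.hom.app (op ⊤) m) = 0
        rw [hm, map_zero]
      obtain ⟨c, hc⟩ := Cohom.sections_exact hA W (s ^ p) h0
      obtain ⟨W', i', d, hxW', hd⟩ := exists_app_eq_of_pow π hU hU'
        (pthClosed_stalk k p C hnod x hx) hxW s c hc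
      refine ⟨W', hxW', ?_⟩
      have e : (cokernel ι).presheaf.map (homOfLE (le_top : W' ≤ ⊤)).op m =
          (cokernel ι).presheaf.map (homOfLE i').op ((cokernel ι).presheaf.map (homOfLE i).op m) := by
        rw [← ConcreteCategory.comp_apply, ← (cokernel ι).presheaf.map_comp]
        rfl
      rw [e, ← hs]
      refine ((ConcreteCategory.congr_hom ((cokernel.π ι).mapPresheaf.naturality (homOfLE i').op) s).symm).trans ?_
      show (cokernel.π ι).app W' (C'.presheaf.map ((Opens.map π.base).map (homOfLE i')).op s) = 0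
      rw [← hd]
      exact Cohom.sections_comp_zero (S := S.map (QCoh.toAbFun C)) W' d
    let O : C.Opens := ⨆ W : {W : C.Opens // (cokernel ι).presheaf.map (homOfLE (le_top : W ≤ ⊤)).op m = 0}, W.1
    have hO : ∀ x : C, x ∈ O := by
      intro x
      by_contra hx
      obtain ⟨y, hy, hyc⟩ := nonempty_inter_closedPoints (Z := ((O : Set C))ᶜ) ⟨x, hx⟩
        O.2.isClosed_compl.isLocallyClosed
      obtain ⟨W, hyW, hW⟩ := hloc y hyc
      exact hy (Opens.mem_iSup.2 ⟨⟨W, hW⟩, hyW⟩)
    refine TopCat.Presheaf.section_ext (Coh.toAb (cokernel ι)) ⊤ m 0 fun x _ => ?_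
    obtain ⟨⟨W, hW⟩, hxW⟩ := Opens.mem_iSup.1 (hO x)
    refine TopCat.Presheaf.germ_ext _ W hxW (homOfLE le_top) (homOfLE le_top) ?_
    show (cokernel ι).presheaf.map _ m = (cokernel ι).presheaf.map _ 0
    rw [map_zero]
    exact hW
  -- coherence and finiteness
  have hOc : Coh.IsCoh (Coh.structureModule C) := Euler.isCoh_of_isInvertible Euler.isInvertible_structure
  have hO'c : Coh.IsCoh (Coh.structureModule C') := Euler.isCoh_of_isInvertible Euler.isInvertible_structure
  have hNc : Coh.IsCoh N := ASBun21.isCoh_push_finite π hO'c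
  have hQc : Coh.IsCoh (cokernel ι) := QCoh.isCoh_cokernel ι hOc hNc
  haveI := Euler.finiteDimensional_HH k hNc 0
  haveI := Euler.finiteDimensional_HH k hQc 0
  have hn : Function.Bijective (Sheaf.H.map ν 0) := by
    refine bijective_H0 (M := N) p ν (fun V r m => ?_) k fun m hm => ?_
    · show ν.hom.app (op V) (π.app V r * (show Γ(C', π ⁻¹ᵁ V) from m) : Γ(C', π ⁻¹ᵁ V)) =
        π.app V (r ^ p) * (show Γ(C', π ⁻¹ᵁ V) from ν.hom.app (op V) m)
      rw [hν, hν, mul_pow, map_pow]
    · rw [hν] at hm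
      exact IsReduced.eq_zero (R := Γ(C', π ⁻¹ᵁ (⊤ : C.Opens))) m ⟨p, hm⟩
  have hq : Function.Bijective (Sheaf.H.map ψ 0) := bijective_H0 (M := cokernel ι) p ψ hψ k hψinj
  -- the first cohomology of the quotient vanishes
  have hsupp : CohB1.support (cokernel ι) ⊆ (U : Set C)ᶜ := by
    intro x hx hxU
    refine QCoh.notMem_support_cokernel_of_surjective ι ?_ hx
    intro e
    obtain ⟨V, hxV, s, rfl⟩ := TopCat.Presheaf.exists_germ_eq N.presheaf e
    obtain ⟨c, hc⟩ := (app_bijective_of_le π (inf_le_right : V ⊓ U ≤ U)).2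
      (N.presheaf.map (homOfLE (inf_le_left : V ⊓ U ≤ V)).op s)
    refine ⟨(Coh.structureModule C).presheaf.germ (V ⊓ U) x ⟨hxV, hxU⟩ c, ?_⟩
    refine (QCoh.stalkLin_germ _ _ _).trans ?_
    show N.presheaf.germ (V ⊓ U) x _ (π.app (V ⊓ U) c) = _
    rw [hc]
    exact TopCat.Presheaf.germ_res_apply N.presheaf _ _ _ _
  have hgen : genericPoints (C : Type u) ⊆ U := by
    intro η hη
    have hfin := NoetherianSpace.finite_irreducibleComponents (α := C)
    have hopen : IsOpen (⋃ Z ∈ irreducibleComponents (C : Type u) \ {closure {η}}, Z)ᶜ :=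
      ((hfin.subset Set.diff_subset).isClosed_biUnion fun Z hZ =>
        isClosed_of_mem_irreducibleComponents Z hZ.1).isOpen_compl
    have hne : η ∈ (⋃ Z ∈ irreducibleComponents (C : Type u) \ {closure {η}}, Z)ᶜ := by
      intro hm
      obtain ⟨Z, ⟨hZ, hZne⟩, hηZ⟩ := Set.mem_iUnion₂.1 hm
      have hle : closure {η} ≤ Z := closure_minimal (Set.singleton_subset_iff.2 hηZ)
        (isClosed_of_mem_irreducibleComponents Z hZ)
      exact hZne (le_antisymm (hη.2 hZ.1 hle) hle).symm.symm
    obtain ⟨y, hy, hyU⟩ := hU.inter_open_nonempty _ hopen ⟨η, hne⟩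
    obtain ⟨Z, hZ, hyZ⟩ : ∃ Z ∈ irreducibleComponents (C : Type u), y ∈ Z :=
      ⟨_, irreducibleComponent_mem_irreducibleComponents y, mem_irreducibleComponent⟩
    have hZη : Z = closure {η} := by
      by_contra h
      exact hy (Set.mem_iUnion₂.2 ⟨Z, ⟨hZ, h⟩, hyZ⟩)
    exact (specializes_iff_mem_closure.2 (hZη ▸ hyZ)).mem_open U.2 hyU
  have hclosed : ∀ x ∈ CohB1.support (cokernel ι), IsClosed ({x} : Set C) := fun x hx =>
    Euler.isClosed_singleton_of_notMem_genericPoints hdim fun h => hsupp hx (hgen h)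
  haveI := Euler.subsingleton_HH_of_finite_support (cokernel ι)
    (Euler.finite_of_closed_points (QCoh.isClosed_support_of_isCoh hQc) hclosed) hclosed 1 le_rfl
  -- the long exact sequence
  let δ : Coh.HH C (cokernel ι) 0 →+ Coh.HH C (Coh.structureModule C) 1 :=
    hA.extClass.postcomp _ rfl
  have hmap : ∀ {F G : Cohom.AbSheaf C} (a : F ⟶ G) (n : ℕ) (x : Sheaf.H F n),
      Sheaf.H.map a n x = Ext.comp x (Ext.mk₀ a) (add_zero n) := fun a n x => rfl
  have h₁ : Function.Exact (Sheaf.H.map g 0) δ := by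
    intro x
    constructor
    · intro hx
      obtain ⟨y, hy⟩ := Ext.covariant_sequence_exact₃ _ hA x rfl hx
      exact ⟨y, hy⟩
    · rintro ⟨y, rfl⟩
      show Ext.comp (Ext.comp y (Ext.mk₀ g) (add_zero 0)) hA.extClass rfl = 0
      rw [Ext.comp_assoc_of_second_deg_zero]
      exact (congrArg (fun t => Ext.comp y t (zero_add 1)) hA.comp_extClass).trans (Ext.comp_zero _ _ _ _ _)
  have h₂ : Function.Exact δ (Sheaf.H.map f 1) := by
    intro x
    constructor
    · intro hx
      obtain ⟨y, hy⟩ := Ext.covariant_sequence_exact₁ _ hA x hx rfl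
      exact ⟨y, hy⟩
    · rintro ⟨y, rfl⟩
      show Ext.comp (Ext.comp y hA.extClass rfl) (Ext.mk₀ f) (add_zero 1) = 0
      rw [Ext.comp_assoc_of_third_deg_zero]
      exact (congrArg (fun t => Ext.comp y t (zero_add 1)) hA.extClass_comp).trans (Ext.comp_zero _ _ _ _ _)
  have hi : Function.Surjective (Sheaf.H.map f 1) := by
    intro x
    obtain ⟨y, hy⟩ := Ext.covariant_sequence_exact₂ _ hA x (Subsingleton.elim (α := Coh.HH C (cokernel ι) 1) _ _)
    exact ⟨y, hy⟩
  have hδ : ∀ x, δ (Sheaf.H.map ψ 0 x) = Sheaf.H.map φ 1 (δ x) := by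
    intro x
    let m : S.map (QCoh.toAbFun C) ⟶ S.map (QCoh.toAbFun C) := ⟨φ, ν, ψ, hf, hg.symm⟩
    show Ext.comp (Ext.comp x (Ext.mk₀ ψ) (add_zero 0)) hA.extClass rfl =
      Ext.comp (Ext.comp x hA.extClass rfl) (Ext.mk₀ φ) (add_zero 1)
    rw [Ext.comp_assoc_of_second_deg_zero, Ext.comp_assoc_of_third_deg_zero]
    exact congrArg (fun t => Ext.comp x t (zero_add 1)) (hA.extClass_naturality hA m).symm
  have key := bijective_iff_of_exact (Sheaf.H.map g 0) δ (Sheaf.H.map f 1) h₁ h₂ hi
    (Sheaf.H.map ν 0) (Sheaf.H.map ψ 0) (Sheaf.H.map φ 1) (Sheaf.H.map ν 1)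
    (fun x => by rw [← Sheaf.H.map_comp_apply, ← Sheaf.H.map_comp_apply, hg]) hδ
    (fun x => by rw [← Sheaf.H.map_comp_apply, ← Sheaf.H.map_comp_apply, hf]) hn.2 hq
  -- the edge map
  refine key.trans ?_
  haveI := hO'c.1
  have hE : Function.Bijective (CohPull.pushEdge π (Coh.structureModule C') 1) :=
    CohPullLib.pushEdge_bijective_of_isAffineHom π _ 1
  have hEnat : ∀ x, CohPull.pushEdge π (Coh.structureModule C') 1 (Sheaf.H.map ν 1 x) =
      Sheaf.H.map φ' 1 (CohPull.pushEdge π (Coh.structureModule C') 1 x) := by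
    intro x
    rw [CohPullLib.pushEdge_apply, CohPullLib.pushEdge_apply]
    refine (congrArg _ (CohPullLib.pullAb_natural π.base ν 1 x)).trans ?_
    refine (Sheaf.H.map_comp_apply _ _ _).symm.trans (Eq.trans ?_ (Sheaf.H.map_comp_apply _ _ _))
    exact congrArg (fun t => Sheaf.H.map t 1 _) ((CohPull.invPushAdj π.base).counit.naturality φ')
  let e := Equiv.ofBijective _ hE
  have he : ⇑(Sheaf.H.map φ' 1) ∘ e = e ∘ ⇑(Sheaf.H.map ν 1) := funext fun x => (hEnat x).symm
  rw [← Equiv.bijective_comp e, he, Equiv.comp_bijective]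

end Main

end GrothLib.NodeFrob
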